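import Mathlib.Topology.Separation.Profinite
import Mathlib.Topology.Algebra.OpenSubgroup
import Mathlib.Algebra.Module.CharacterModule
import Mathlib.GroupTheory.FiniteAbelian.Basic
import Mathlib.GroupTheory.ResiduallyFinite

/-!
# Totally disconnected locally compact abelian groups
-/

universe u

open Topology

namespace Groth.Agent.H18Top

variable {B : Type u} [AddCommGroup B] [TopologicalSpace B] [IsTopologicalAddGroup B]
  [T2Space B] [LocallyCompactSpace B] [TotallyDisconnectedSpace B]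

/-- Van Dantzig: every neighbourhood of zero contains a compact open subgroup. -/
theorem exists_compact_openAddSubgroup {O : Set B} (hO : IsOpen O) (h0 : (0 : B) ∈ O) :
    ∃ H : AddSubgroup B, IsOpen (H : Set B) ∧ IsCompact (H : Set B) ∧ (H : Set B) ⊆ O := by
  obtain ⟨K, hK, h0K, hKO⟩ := exists_compact_subset hO h0
  obtain ⟨W, hW, h0W, hWK⟩ :=
    (loc_compact_Haus_tot_disc_of_zero_dim (H := B)).exists_subset_of_mem_open h0K isOpen_interior
  have hWc : IsCompact W := hK.of_isClosed_subset hW.1 (hWK.trans interior_subset)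
  obtain ⟨V, hV, hWV⟩ := compact_open_separated_add_right hWc hW.2 Set.Subset.rfl
  let H : AddSubgroup B :=
    { carrier := {g | ∀ w, w + g ∈ W ↔ w ∈ W}
      zero_mem' := fun w => by rw [add_zero]
      add_mem' := fun {a b} ha hb w => by rw [← add_assoc, hb, ha]
      neg_mem' := fun {a} ha w => by
        have := ha (w + -a)
        rw [neg_add_cancel_right] at this
        exact this.symm }
  have hHo : IsOpen (H : Set B) := by
    refine AddSubgroup.isOpen_of_mem_nhds (g := 0) H ?_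
    have hV' : -V ∈ 𝓝 (0 : B) := neg_mem_nhds_zero B hV
    refine Filter.mem_of_superset (Filter.inter_mem hV hV') fun g hg w => ⟨fun h => ?_, fun h => ?_⟩
    · have := hWV (Set.add_mem_add h hg.2)
      rwa [add_neg_cancel_right] at this
    · exact hWV (Set.add_mem_add h hg.1)
  have hHW : (H : Set B) ⊆ W := fun g hg => by
    have := (hg 0).2 h0W
    rwa [zero_add] at this
  exact ⟨H, hHo, hWc.of_isClosed_subset ((OpenAddSubgroup.mk H hHo).isClosed) hHW,
    fun g hg => hKO (interior_subset (hWK (hHW hg)))⟩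

theorem residuallyFinite_of_fg {Q : Type u} [AddCommGroup Q] [AddGroup.FG Q] {q : Q} (hq : q ≠ 0) :
    ∃ H : AddSubgroup Q, H.FiniteIndex ∧ q ∉ H := by
  obtain ⟨n, ι, _, p, hp, e, ⟨f⟩⟩ := AddCommGroup.equiv_free_prod_directSum_zmod Q
  haveI : ∀ i, NeZero (p i ^ e i) := fun i => ⟨pow_ne_zero _ (hp i).ne_zero⟩
  rcases h : f q with ⟨a, b⟩
  by_cases hb : b = 0
  · have ha : a ≠ 0 := fun ha => hq (f.injective (by rw [h, ha, hb, map_zero]; rfl))
    obtain ⟨j, hj⟩ := Finsupp.ne_iff.1 ha
    rw [Finsupp.zero_apply] at hj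
    let m : ℕ := (a j).natAbs + 1
    haveI : NeZero m := ⟨by omega⟩
    let π : Q →+ ZMod m := ((Int.castAddHom (ZMod m)).comp
      ((Finsupp.applyAddHom j).comp (AddMonoidHom.fst _ _))).comp f.toAddMonoidHom
    haveI : Finite π.range := inferInstance
    refine ⟨π.ker, inferInstance, fun hk => hj ?_⟩
    have h' : ((a j : ℤ) : ZMod m) = 0 := by
      have hk' : ((((f q).1 : Fin n →₀ ℤ) j : ℤ) : ZMod m) = 0 := AddMonoidHom.mem_ker.1 hk
      rwa [h] at hk'
    rw [ZMod.intCast_zmod_eq_zero_iff_dvd] at h'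
    exact Int.eq_zero_of_abs_lt_dvd h' (by rw [Int.abs_eq_natAbs]; omega)
  · classical
    obtain ⟨j, hj⟩ : ∃ j, b j ≠ 0 := by
      by_contra hne
      exact hb (DFinsupp.ext fun j => by simpa using not_exists.1 hne j)
    let π : Q →+ ZMod (p j ^ e j) := ((DFinsupp.evalAddMonoidHom j).comp (AddMonoidHom.snd _ _)).comp
      f.toAddMonoidHom
    haveI : Finite π.range := inferInstance
    refine ⟨π.ker, inferInstance, fun hk => hj ?_⟩
    have hk' : (f q).2 j = 0 := AddMonoidHom.mem_ker.1 hk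
    rwa [h] at hk'

omit [T2Space B] [LocallyCompactSpace B] [TotallyDisconnectedSpace B] in
theorem fg_quotient {K : Set B} (hK : IsCompact K) (hKg : AddSubgroup.closure K = ⊤)
    (C : AddSubgroup B) (hC : IsOpen (C : Set B)) : AddGroup.FG (B ⧸ C) := by
  haveI : DiscreteTopology (B ⧸ C) := QuotientAddGroup.discreteTopology hC
  have hfin : ((QuotientAddGroup.mk' C) '' K).Finite :=
    (hK.image QuotientAddGroup.continuous_mk).finite_of_discrete
  refine ⟨⟨hfin.toFinset, ?_⟩⟩
  rw [Set.Finite.coe_toFinset, ← AddMonoidHom.map_closure, hKg,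
    AddSubgroup.map_top_of_surjective _ (QuotientAddGroup.mk'_surjective C)]

theorem exists_isOpen_finiteIndex_not_mem {K : Set B} (hK : IsCompact K)
    (hKg : AddSubgroup.closure K = ⊤) (b : B) (hb : b ≠ 0) :
    ∃ B' : AddSubgroup B, IsOpen (B' : Set B) ∧ B'.FiniteIndex ∧ b ∉ B' := by
  obtain ⟨C, hCo, -, hCb⟩ := exists_compact_openAddSubgroup (O := {b}ᶜ) isOpen_compl_singleton
    (fun h : (0 : B) = b => hb h.symm)
  haveI := fg_quotient hK hKg C hCo
  obtain ⟨H, hH, hbH⟩ := residuallyFinite_of_fg (q := (b : B ⧸ C))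
    (fun h => hCb ((QuotientAddGroup.eq_zero_iff b).1 h) rfl)
  refine ⟨H.comap (QuotientAddGroup.mk' C), ?_, ?_, hbH⟩
  · refine AddSubgroup.isOpen_mono (fun x hx => ?_) hCo
    show (x : B ⧸ C) ∈ H
    rw [(QuotientAddGroup.eq_zero_iff x).2 hx]
    exact zero_mem _
  · exact ⟨by rw [AddSubgroup.index_comap_of_surjective _ (QuotientAddGroup.mk'_surjective C)]; exact hH.index_ne_zero⟩

/-- A character with open kernel on a subgroup with the induced topology extends. -/
theorem exists_extension_of_isInducing {A : Type*} [AddCommGroup A] [TopologicalSpace A]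
    (i : A →+ B) (hind : IsInducing i) (χ : A →+ ℚ ⧸ AddSubgroup.zmultiples (1 : ℚ))
    (hχ : IsOpen (χ.ker : Set A)) :
    ∃ ψ : B →+ ℚ ⧸ AddSubgroup.zmultiples (1 : ℚ), IsOpen (ψ.ker : Set B) ∧ ψ.comp i = χ := by
  obtain ⟨O, hO, hOA⟩ := hind.isOpen_iff.1 hχ
  have h0 : (0 : B) ∈ O := by
    have : (0 : A) ∈ i ⁻¹' O := hOA ▸ χ.ker.zero_mem
    simpa using this
  obtain ⟨C, hCo, -, hCO⟩ := exists_compact_openAddSubgroup hO h0
  have hker : C.comap i ≤ χ.ker := fun a ha => by
    show a ∈ (χ.ker : Set A)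
    rw [← hOA]
    exact hCO ha
  let j : A ⧸ C.comap i →+ B ⧸ C := QuotientAddGroup.map _ _ i le_rfl
  have hj : Function.Injective j := (injective_iff_map_eq_zero j).2 fun a => by
    induction a using QuotientAddGroup.induction_on with
    | H a =>
      intro ha
      exact (QuotientAddGroup.eq_zero_iff a).2 ((QuotientAddGroup.eq_zero_iff (i a)).1 ha)
  let χ' : CharacterModule (A ⧸ C.comap i) := QuotientAddGroup.lift _ χ hker
  obtain ⟨ψ, hψ⟩ : ∃ ψ : CharacterModule (B ⧸ C), ψ.comp j = χ' := by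
    obtain ⟨ψ, hψ⟩ := CharacterModule.dual_surjective_of_injective j.toIntLinearMap hj χ'
    exact ⟨ψ, hψ⟩
  refine ⟨ψ.comp (QuotientAddGroup.mk' C), AddSubgroup.isOpen_mono (fun x hx => ?_) hCo, ?_⟩
  · show ψ (x : B ⧸ C) = 0
    rw [(QuotientAddGroup.eq_zero_iff x).2 hx, map_zero]
  · ext a
    exact DFunLike.congr_fun hψ (a : A ⧸ C.comap i)

end Groth.Agent.H18Top
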